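/-
helper35: project BT (S2154, Borel–Tits).  Definitions: the grading of the coordinate module of a Chevalley datum by
the root lattice (from helper61's `ChevJ`), real weights `wt y a = ⟨wv a, y⟩` for `y : Fin rank → ℝ`, the predicate
`Fil y c M` ("the matrix `M` raises the `y`-weight by at least `c`"), the action of the fundamental reflections on `y`,
the invariant quadratic form `Q`, and the first consequences of helper61's entry lemma.
-/
import Cfsg.Agent.Lib.Helper61.ChevJ.Grade
import Cfsg.Agent.Lib.Helper18.NPMat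
import Mathlib

set_option autoImplicit false

namespace Cfsg.Agent.Lib.Helper35.BT

open Cfsg Cfsg.Lie Cfsg.Agent.Lib.Helper18 Cfsg.Agent.Lib.Helper61.ChevJ Matrix

universe u

variable {D : ChevalleyDatum}

/-- helper61's bundle together with the extra table facts used by project BT. -/
structure BTData.{v} (D : ChevalleyDatum) where
  X : JData.{v} D
  hnp : X.C.T.npOK X.C.tabs X.C.simples = true
  hsimple : ∀ i < D.rank, ∀ k < D.rank, rcAt X.rcT X.C.T.rank (D.simple i) k = if k = i then 1 else 0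
  hrefl : ∀ i < D.rank, ∀ s < D.nroots, ∀ k < D.rank,
    rcAt X.rcT X.C.T.rank (D.reflectRoot i s) k = rcAt X.rcT X.C.T.rank s k - if k = i then D.cartan i s else 0
  hcartan : ∀ i < D.rank, ∀ s < D.nroots,
    D.cartan i s = ∑ k ∈ Finset.range D.rank, rcAt X.rcT X.C.T.rank s k * D.cartan i (D.simple k)
  hself : ∀ i < D.rank, D.cartan i (D.simple i) = 2

/-- The space of real "coweights". -/
abbrev Y (D : ChevalleyDatum) : Type := Fin D.rank → ℝ

section Grading

variable (X : JData.{u} D)

/-- The coefficient of the root `r` at the `k`-th fundamental root. -/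
def rv (r : ℕ) (k : Fin D.rank) : ℤ := rcAt X.rcT X.C.T.rank r k

/-- The degree of a coordinate in the root lattice: `0` for the Cartan part, the root `s` for `e_s`. -/
def wv (a : D.Idx) (k : Fin D.rank) : ℤ := lvC X.rcT X.C.T.rank (code D a) k

/-- The value of `y` on the root `r`. -/
def om (y : Y D) (r : ℕ) : ℝ := ∑ k, (rv X r k : ℝ) * y k

/-- The `y`-weight of a coordinate. -/
def wt (y : Y D) (a : D.Idx) : ℝ := ∑ k, (wv X a k : ℝ) * y k

theorem wv_inl (i : Fin D.rank) (k : Fin D.rank) : wv X (Sum.inl i) k = 0 := rfl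

theorem wv_inr (s : Fin D.nroots) (k : Fin D.rank) : wv X (Sum.inr s) k = rv X s.1 k := rfl

theorem wt_inl (y : Y D) (i : Fin D.rank) : wt X y (Sum.inl i) = 0 := by
  unfold wt
  simp [wv_inl]

theorem wt_inr (y : Y D) (s : Fin D.nroots) : wt X y (Sum.inr s) = om X y s.1 := rfl

theorem wt_add (y z : Y D) (a : D.Idx) : wt X (y + z) a = wt X y a + wt X z a := by
  unfold wt
  rw [← Finset.sum_add_distrib]
  exact Finset.sum_congr rfl fun k _ => by rw [Pi.add_apply]; ring

theorem wt_smul (c : ℝ) (y : Y D) (a : D.Idx) : wt X (c • y) a = c * wt X y a := by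
  unfold wt
  rw [Finset.mul_sum]
  exact Finset.sum_congr rfl fun k _ => by rw [Pi.smul_apply, smul_eq_mul]; ring

theorem om_add (y z : Y D) (r : ℕ) : om X (y + z) r = om X y r + om X z r := by
  unfold om
  rw [← Finset.sum_add_distrib]
  exact Finset.sum_congr rfl fun k _ => by rw [Pi.add_apply]; ring

theorem om_smul (c : ℝ) (y : Y D) (r : ℕ) : om X (c • y) r = c * om X y r := by
  unfold om
  rw [Finset.mul_sum]
  exact Finset.sum_congr rfl fun k _ => by rw [Pi.smul_apply, smul_eq_mul]; ring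

/-- helper61's entry lemma, coordinatewise: a non-zero entry of `x_r(t)` at `(a, b)` forces
`wv a = wv b + m • r` for a natural number `m`, with `m ≠ 0` off the diagonal. -/
theorem entry {F : Type u} [Field F] (r : ℕ) (hr : r < D.nroots) (t : F) (a b : D.Idx)
    (h : D.x F r t a b ≠ 0) :
    ∃ m : ℕ, (m = 0 → a = b) ∧ ∀ k : Fin D.rank, wv X a k = wv X b k + (m : ℤ) * rv X r k := by
  obtain ⟨e, he, hea⟩ := X.exists_skel_of_ne_zero r hr t a b h
  have hn := X.C.nroots_eq
  have hl := X.C.rank_eq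
  have hc : code D b ∈ X.C.T.allCodesF := by
    rw [X.C.T.allCodesF_eq D X.C.hag]
    exact mem_allCodes D b
  obtain ⟨h0, hk⟩ := gradeAt_entry X.C.T X.rcT r (X.hgrade r (hn.symm ▸ hr)) (code D b) hc e he
  refine ⟨e.2.2, fun hm => code_injective D (hea.symm.trans (h0 hm)), fun k => ?_⟩
  unfold wv rv
  rw [← hea]
  exact hk k (hl.symm ▸ k.2)

/-- The entry lemma for weights. -/
theorem wt_entry {F : Type u} [Field F] (y : Y D) (r : ℕ) (hr : r < D.nroots) (t : F) (a b : D.Idx)
    (h : D.x F r t a b ≠ 0) :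
    ∃ m : ℕ, (m = 0 → a = b) ∧ wt X y a = wt X y b + (m : ℝ) * om X y r := by
  obtain ⟨m, h0, hk⟩ := entry X r hr t a b h
  refine ⟨m, h0, ?_⟩
  unfold wt om
  rw [Finset.mul_sum, ← Finset.sum_add_distrib]
  refine Finset.sum_congr rfl fun k _ => ?_
  rw [hk k]
  push_cast
  ring

end Grading

section Fil

variable {F : Type u} [Field F] (X : JData.{u} D)

/-- The matrix `M` raises the `y`-weight by at least `c`: a non-zero entry at `(a, b)` (row `a`, column `b`) has
`wt y b + c ≤ wt y a`. -/
def Fil (y : Y D) (c : ℝ) (M : Matrix D.Idx D.Idx F) : Prop := ∀ a b, M a b ≠ 0 → wt X y b + c ≤ wt X y a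

variable {X}

theorem Fil.mono {y : Y D} {c c' : ℝ} {M : Matrix D.Idx D.Idx F} (h : Fil X y c M) (hc : c' ≤ c) :
    Fil X y c' M := fun a b hab => by linarith [h a b hab]

theorem Fil.zero (y : Y D) (c : ℝ) : Fil X y c (0 : Matrix D.Idx D.Idx F) := fun _ _ hab => absurd rfl hab

theorem Fil.one (y : Y D) : Fil X y 0 (1 : Matrix D.Idx D.Idx F) := by
  intro a b hab
  by_cases h : a = b
  · subst h; linarith
  · exact absurd (Matrix.one_apply_ne h) hab

theorem Fil.diagonal (y : Y D) (d : D.Idx → F) : Fil X y 0 (Matrix.diagonal d) := by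
  intro a b hab
  by_cases h : a = b
  · subst h; linarith
  · exact absurd (Matrix.diagonal_apply_ne d h) hab

theorem Fil.add {y : Y D} {c : ℝ} {M N : Matrix D.Idx D.Idx F} (hM : Fil X y c M) (hN : Fil X y c N) :
    Fil X y c (M + N) := by
  intro a b hab
  rw [Matrix.add_apply] at hab
  by_cases h : M a b = 0
  · rw [h, zero_add] at hab
    exact hN a b hab
  · exact hM a b h

theorem Fil.neg {y : Y D} {c : ℝ} {M : Matrix D.Idx D.Idx F} (hM : Fil X y c M) : Fil X y c (-M) := by
  intro a b hab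
  rw [Matrix.neg_apply, neg_ne_zero] at hab
  exact hM a b hab

theorem Fil.sub {y : Y D} {c : ℝ} {M N : Matrix D.Idx D.Idx F} (hM : Fil X y c M) (hN : Fil X y c N) :
    Fil X y c (M - N) := by
  rw [sub_eq_add_neg]
  exact hM.add hN.neg

theorem Fil.smul {y : Y D} {c : ℝ} {M : Matrix D.Idx D.Idx F} (hM : Fil X y c M) (t : F) :
    Fil X y c (t • M) := by
  intro a b hab
  rw [Matrix.smul_apply, smul_eq_mul] at hab
  exact hM a b (right_ne_zero_of_mul hab)

theorem Fil.mul {y : Y D} {c c' : ℝ} {M N : Matrix D.Idx D.Idx F} (hM : Fil X y c M) (hN : Fil X y c' N) :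
    Fil X y (c + c') (M * N) := by
  intro a b hab
  rw [Matrix.mul_apply] at hab
  obtain ⟨k, -, hk⟩ := Finset.exists_ne_zero_of_sum_ne_zero hab
  have h1 := hM a k (left_ne_zero_of_mul hk)
  have h2 := hN k b (right_ne_zero_of_mul hk)
  linarith

/-- Convexity in `y`. -/
theorem Fil.convex {y z : Y D} {c c' : ℝ} {M : Matrix D.Idx D.Idx F} (hy : Fil X y c M) (hz : Fil X z c' M)
    (s t : ℝ) (hs : 0 ≤ s) (ht : 0 ≤ t) : Fil X (s • y + t • z) (s * c + t * c') M := by
  intro a b hab
  have h1 := hy a b hab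
  have h2 := hz a b hab
  rw [wt_add, wt_add, wt_smul, wt_smul, wt_smul, wt_smul]
  nlinarith [mul_le_mul_of_nonneg_left h1 hs, mul_le_mul_of_nonneg_left h2 ht]

end Fil

section Weyl

variable (X : JData.{u} D)

/-- `y` is dominant. -/
def Dom (y : Y D) : Prop := ∀ k, 0 ≤ y k

/-- The action of the `i`-th fundamental reflection on `y` (contragredient to the action on the roots):
`(s_i y)_k = y_k - A_{p_i, p_k} y_i`. -/
def sy (i : ℕ) (y : Y D) : Y D :=
  if h : i < D.rank then fun k => y k - (D.cartan i (D.simple k) : ℝ) * y ⟨i, h⟩ else y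

/-- The action of a word in the fundamental reflections on `y` (the first letter acts last, as in `nW`). -/
def wy (ws : List ℕ) (y : Y D) : Y D := ws.foldr sy y

theorem wy_nil (y : Y D) : wy ([] : List ℕ) y = y := rfl

theorem wy_cons (i : ℕ) (ws : List ℕ) (y : Y D) : wy (i :: ws) y = sy i (wy ws y) := rfl

/-- The invariant quadratic form `Q(y) = Σ_r ⟨r, y⟩²`. -/
def Q (y : Y D) : ℝ := ∑ r ∈ Finset.range D.nroots, (om X y r) ^ 2

/-- The set of fundamental roots on which `y` vanishes. -/
def Jof (y : Y D) : Set ℕ := {i | ∃ h : i < D.rank, y ⟨i, h⟩ = 0}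

end Weyl

section InK

variable {F : Type u} [Field F] (X : JData.{u} D)

/-- The pair `(g, y)` is admissible for the subgroup `V`: every `g⁻¹ v g - 1`, `v ∈ V`, raises the `y`-weight by at
least `1`. -/
def InK (V : Subgroup (GL D.Idx F)) (g : GL D.Idx F) (y : Y D) : Prop :=
  ∀ v ∈ V, Fil X y 1 (((g⁻¹ * v * g : GL D.Idx F) : Matrix D.Idx D.Idx F) - 1)

end InK

end Cfsg.Agent.Lib.Helper35.BT
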