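/-
helper35: project BT, module [BRUHAT]: every element of the Chevalley group is `b * n_w * b'` with `b`, `b'` in the
Borel subgroup and `n_w` a word in the `n_{p_i}(1)`.
-/
import Cfsg.Agent.Lib.Helper35.BT.Defs
import Cfsg.Agent.S1042
import Cfsg.Agent.Lib.Helper6.BNBruhat
import Cfsg.Agent.Lib.Helper18.BN3
import Cfsg.Agent.Lib.Helper18.Borel

set_option autoImplicit false

namespace Cfsg.Agent.Lib.Helper35.BT

open Cfsg Cfsg.Lie Cfsg.Agent.Lib.Helper18 Cfsg.Agent.Lib.Helper61.ChevJ Cfsg.Agent.Lib.Helper6 Matrix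

universe u

variable {D : ChevalleyDatum} {F : Type u} [Field F]

theorem exists_bruhat (hD : D ∈ [chevG2, chevB2, chevD4, chevF4, chevE6, chevE7, chevE8]) (C : ChevData.{u} D)
    (g : GL D.Idx F) (hg : g ∈ D.group F) :
    ∃ b ∈ D.borelSubgroup F, ∃ ws : List ℕ, ∃ b' ∈ D.borelSubgroup F, g = b * nW hD C ws * b' := by
  obtain ⟨P, hPB, hPN, -⟩ := Cfsg.Agent.S1042.exists_bnPair (F := F) D hD C
  obtain ⟨n, hn, x, hx, y, hy, hxy⟩ := bruhat_exists P ⟨g, hg⟩
  rw [hPN, Subgroup.mem_subgroupOf] at hn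
  rw [hPB, Subgroup.mem_subgroupOf] at hx hy
  have hg' : g = (x : GL D.Idx F) * n * y := by
    have := congrArg Subtype.val hxy
    simpa using this
  obtain ⟨ws, h₀, -, hh₀, hnw⟩ := isWordH_of_mem_monomial hD C _ hn
  refine ⟨x, hx, ws, h₀ * y, mul_mem (borel_of_diagonal _ hh₀) hy, ?_⟩
  rw [hg', hnw]
  group

end Cfsg.Agent.Lib.Helper35.BT
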