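/-
helper35: project BT, module [DOM]: every real coweight is moved into the dominant chamber by a word in the
fundamental reflections (descent on the number of positive roots taking a negative value).
-/
import Cfsg.Agent.Lib.Helper35.BT.Defs
import Cfsg.Agent.Lib.Helper7.BT.RootA

set_option autoImplicit false

namespace Cfsg.Agent.Lib.Helper35.BT

open Cfsg Cfsg.Lie Cfsg.Agent.Lib.Helper18 Cfsg.Agent.Lib.Helper61.ChevJ Matrix

universe u

variable {D : ChevalleyDatum}

/-- The positive roots on which `y` is negative. -/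
noncomputable def negSet (X : JData.{u} D) (y : Y D) : Finset ℕ :=
  (Finset.range D.nroots).filter fun r => D.nroots / 2 ≤ r ∧ om X y r < 0

theorem card_negSet_sy_lt (Bd : BTData.{u} D) (y : Y D) (i : Fin D.rank) (hi : y i < 0) :
    (negSet Bd.X (sy i y)).card < (negSet Bd.X y).card := by
  have hl := Bd.X.C.rank_eq
  have hn := Bd.X.C.nroots_eq
  have hp : D.simple i < D.nroots := Bd.X.C.simple_lt i i.2
  have hp2 : D.nroots / 2 ≤ D.simple i := Bd.X.C.half_le_simple i i.2
  have hpmem : D.simple i ∈ negSet Bd.X y := by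
    unfold negSet
    rw [Finset.mem_filter, Finset.mem_range, om_simple]
    exact ⟨hp, hp2, hi⟩
  -- the value of `sy i y` at `p_i`
  have hval : om Bd.X (sy i y) (D.simple i) = - y i := by
    have h1 := om_sy Bd i i.2 y (D.neg (D.simple i)) (Bd.X.neg_lt _ hp)
    have e : D.reflectRoot i (D.neg (D.simple i)) = D.simple i := by
      have e1 : D.neg (D.simple i) = Bd.X.C.w i (D.simple i) := by
        rw [Cfsg.Agent.Lib.Helper18.w_simple Bd.X.C i i.2, Bd.X.C.neg_eq _ hp]
      rw [Bd.X.C.w_eq_reflectRoot i _ i.2 (Bd.X.neg_lt _ hp), e1, Bd.X.C.w_w i _ i.2 hp]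
    rw [e, om_neg_simple] at h1
    exact h1
  have hcard : (negSet Bd.X (sy i y)).card ≤ ((negSet Bd.X y).erase (D.simple i)).card := by
    apply Finset.card_le_card_of_injOn (fun r => Bd.X.C.w i r)
    · intro r hr
      have hr' := hr
      unfold negSet at hr'
      rw [Finset.coe_filter, Set.mem_ofPred_eq, Finset.mem_range] at hr'
      obtain ⟨hr1, hr2, hr3⟩ := hr'
      have hrp : r ≠ D.simple i := by
        rintro rfl
        rw [hval] at hr3
        linarith
      have hpos := Bd.X.C.spec.refl_pos i (hl.symm ▸ i.2) r (hn.symm ▸ hr2) (hn.symm ▸ hr1)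
        (by rw [← Bd.X.C.hsimple i i.2]; exact hrp)
      rw [hn, ← Bd.X.C.hsimple i i.2] at hpos
      have hwlt := Bd.X.C.w_lt i r i.2 hr1
      have hom : om Bd.X y (Bd.X.C.w i r) = om Bd.X (sy i y) r := by
        have h1 := om_sy Bd i i.2 y (Bd.X.C.w i r) hwlt
        rw [Bd.X.C.w_eq_reflectRoot i _ i.2 hwlt, Bd.X.C.w_w i r i.2 hr1] at h1
        exact h1.symm
      rw [Finset.coe_erase, Set.mem_sdiff, Set.mem_singleton_iff]
      refine ⟨?_, hpos.2⟩
      unfold negSet
      rw [Finset.coe_filter, Set.mem_ofPred_eq, Finset.mem_range]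
      exact ⟨hwlt, hpos.1, by rw [hom]; exact hr3⟩
    · intro r hr s hs hrs
      have hr1 : r < D.nroots := by
        unfold negSet at hr
        rw [Finset.coe_filter, Set.mem_ofPred_eq, Finset.mem_range] at hr
        exact hr.1
      have hs1 : s < D.nroots := by
        unfold negSet at hs
        rw [Finset.coe_filter, Set.mem_ofPred_eq, Finset.mem_range] at hs
        exact hs.1
      have := congrArg (Bd.X.C.w i) hrs
      simp only at this
      rwa [Bd.X.C.w_w i r i.2 hr1, Bd.X.C.w_w i s i.2 hs1] at this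
  have hlt : ((negSet Bd.X y).erase (D.simple i)).card < (negSet Bd.X y).card :=
    Finset.card_erase_lt_of_mem hpmem
  exact lt_of_le_of_lt hcard hlt

theorem exists_dom_aux (Bd : BTData.{u} D) (n : ℕ) :
    ∀ y : Y D, (negSet Bd.X y).card ≤ n → ∃ ws : List ℕ, Dom (wy ws y) := by
  induction n with
  | zero =>
    intro y hy
    refine ⟨[], fun k => ?_⟩
    rw [wy_nil]
    by_contra hk
    push Not at hk
    have := card_negSet_sy_lt Bd y k hk
    omega
  | succ n ih =>
    intro y hy
    by_cases hdom : Dom y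
    · exact ⟨[], hdom⟩
    · unfold Dom at hdom
      push Not at hdom
      obtain ⟨k, hk⟩ := hdom
      have hlt := card_negSet_sy_lt Bd y k hk
      obtain ⟨ws, hws⟩ := ih (sy k y) (by omega)
      refine ⟨ws ++ [(k : ℕ)], ?_⟩
      have e : wy (ws ++ [(k : ℕ)]) y = wy ws (sy k y) := by
        unfold wy
        rw [List.foldr_append]
        rfl
      rw [e]
      exact hws

theorem exists_dom (hD : D ∈ [chevG2, chevB2, chevD4, chevF4, chevE6, chevE7, chevE8]) (Bd : BTData.{u} D)
    (y : Y D) : ∃ ws : List ℕ, Dom (wy ws y) :=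
  exists_dom_aux Bd _ y le_rfl

end Cfsg.Agent.Lib.Helper35.BT
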