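/-
helper35: project BT, module [FIL-INV]: if `g - 1` raises the `y`-weight by at least `c > 0`, so does `g⁻¹ - 1`
(finite field: `g⁻¹` is a power of `g`).
-/
import Cfsg.Agent.Lib.Helper35.BT.Defs

set_option autoImplicit false

namespace Cfsg.Agent.Lib.Helper35.BT

open Cfsg Cfsg.Lie Cfsg.Agent.Lib.Helper18 Cfsg.Agent.Lib.Helper61.ChevJ Matrix

universe u

variable {D : ChevalleyDatum} {F : Type u} [Field F]

theorem fil_mul_sub_one {X : JData.{u} D} {y : Y D} {c : ℝ} (hc : 0 < c) {A B : Matrix D.Idx D.Idx F}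
    (hA : Fil X y c (A - 1)) (hB : Fil X y c (B - 1)) : Fil X y c (A * B - 1) := by
  have e : A * B - 1 = (A - 1) * (B - 1) + (A - 1) + (B - 1) := by
    rw [Matrix.sub_mul, Matrix.mul_sub, Matrix.mul_sub, Matrix.mul_one, Matrix.one_mul, Matrix.mul_one]
    abel
  rw [e]
  exact (((hA.mul hB).mono (by linarith)).add hA).add hB

theorem fil_pow_sub_one {X : JData.{u} D} {y : Y D} {c : ℝ} (hc : 0 < c) (g : GL D.Idx F)
    (h : Fil X y c ((g : Matrix D.Idx D.Idx F) - 1)) (k : ℕ) :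
    Fil X y c (((g ^ k : GL D.Idx F) : Matrix D.Idx D.Idx F) - 1) := by
  induction k with
  | zero =>
    rw [pow_zero, Units.val_one, sub_self]
    exact Fil.zero y c
  | succ k ih =>
    rw [pow_succ, Units.val_mul]
    exact fil_mul_sub_one hc ih h

theorem fil_inv [Finite F] (X : JData.{u} D) (y : Y D) (c : ℝ) (hc : 0 < c) (g : GL D.Idx F)
    (h : Fil X y c ((g : Matrix D.Idx D.Idx F) - 1)) :
    Fil X y c (((g⁻¹ : GL D.Idx F) : Matrix D.Idx D.Idx F) - 1) := by
  have : Finite (GL D.Idx F) := inferInstance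
  have hpos : 0 < orderOf g := orderOf_pos g
  have e : g⁻¹ = g ^ (orderOf g - 1) := by
    apply inv_eq_of_mul_eq_one_right
    rw [← pow_succ', Nat.sub_add_cancel hpos, pow_orderOf_eq_one]
  rw [e]
  exact fil_pow_sub_one hc g h _

end Cfsg.Agent.Lib.Helper35.BT
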