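/-
helper35: project BT, module [FIL-W] in `_of` form: the weights along a word `n_w`, from the statements of [FIL-S]
for a single `n_{p_i}(1)`.
-/
import Cfsg.Agent.Lib.Helper35.BT.Defs

set_option autoImplicit false

namespace Cfsg.Agent.Lib.Helper35.BT

open Cfsg Cfsg.Lie Cfsg.Agent.Lib.Helper18 Cfsg.Agent.Lib.Helper61.ChevJ Matrix

universe u

variable {D : ChevalleyDatum} {F : Type u} [Field F]

theorem exists_of_mul_apply_ne_zero (M N : Matrix D.Idx D.Idx F) (a b : D.Idx) (h : (M * N) a b ≠ 0) :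
    ∃ c, M a c ≠ 0 ∧ N c b ≠ 0 := by
  rw [Matrix.mul_apply] at h
  obtain ⟨c, -, hc⟩ := Finset.exists_ne_zero_of_sum_ne_zero h
  exact ⟨c, left_ne_zero_of_mul hc, right_ne_zero_of_mul hc⟩

theorem wt_nW_of (hD : D ∈ [chevG2, chevB2, chevD4, chevF4, chevE6, chevE7, chevE8]) (Bd : BTData.{u} D)
    (hS : ∀ (i : ℕ) (y : Y D) (a b : D.Idx),
      ((sG (F := F) hD Bd.X.C i : GL D.Idx F) : Matrix D.Idx D.Idx F) a b ≠ 0 →
        wt Bd.X (sy i y) a = wt Bd.X y b)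
    (ws : List ℕ) (y : Y D) (a b : D.Idx)
    (h : ((nW (F := F) hD Bd.X.C ws : GL D.Idx F) : Matrix D.Idx D.Idx F) a b ≠ 0) :
    wt Bd.X (wy ws y) a = wt Bd.X y b := by
  induction ws generalizing a b with
  | nil =>
    rw [nW_nil, Units.val_one] at h
    by_cases hab : a = b
    · rw [hab, wy_nil]
    · exact absurd (Matrix.one_apply_ne hab) h
  | cons i ws ih =>
    rw [nW_cons, Units.val_mul] at h
    obtain ⟨c, h1, h2⟩ := exists_of_mul_apply_ne_zero _ _ a b h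
    rw [wy_cons, hS i (wy ws y) a c h1]
    exact ih c b h2

theorem wt_nW_inv_of (hD : D ∈ [chevG2, chevB2, chevD4, chevF4, chevE6, chevE7, chevE8]) (Bd : BTData.{u} D)
    (hS : ∀ (i : ℕ) (y : Y D) (a b : D.Idx),
      (((sG (F := F) hD Bd.X.C i)⁻¹ : GL D.Idx F) : Matrix D.Idx D.Idx F) a b ≠ 0 →
        wt Bd.X y a = wt Bd.X (sy i y) b)
    (ws : List ℕ) (y : Y D) (a b : D.Idx)
    (h : (((nW (F := F) hD Bd.X.C ws)⁻¹ : GL D.Idx F) : Matrix D.Idx D.Idx F) a b ≠ 0) :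
    wt Bd.X y a = wt Bd.X (wy ws y) b := by
  induction ws generalizing a b with
  | nil =>
    rw [nW_nil, inv_one, Units.val_one] at h
    by_cases hab : a = b
    · rw [hab, wy_nil]
    · exact absurd (Matrix.one_apply_ne hab) h
  | cons i ws ih =>
    rw [nW_cons, _root_.mul_inv_rev, Units.val_mul] at h
    obtain ⟨c, h1, h2⟩ := exists_of_mul_apply_ne_zero _ _ a b h
    rw [wy_cons, ← hS i (wy ws y) c b h2]
    exact ih a c h1

theorem fil_conj_of (hD : D ∈ [chevG2, chevB2, chevD4, chevF4, chevE6, chevE7, chevE8]) (Bd : BTData.{u} D)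
    (hS : ∀ (i : ℕ) (y : Y D) (a b : D.Idx),
      ((sG (F := F) hD Bd.X.C i : GL D.Idx F) : Matrix D.Idx D.Idx F) a b ≠ 0 →
        wt Bd.X (sy i y) a = wt Bd.X y b)
    (hS' : ∀ (i : ℕ) (y : Y D) (a b : D.Idx),
      (((sG (F := F) hD Bd.X.C i)⁻¹ : GL D.Idx F) : Matrix D.Idx D.Idx F) a b ≠ 0 →
        wt Bd.X y a = wt Bd.X (sy i y) b)
    (ws : List ℕ) (y : Y D) (c : ℝ) (M : Matrix D.Idx D.Idx F) (h : Fil Bd.X y c M) :
    Fil Bd.X (wy ws y) c
      (((nW (F := F) hD Bd.X.C ws : GL D.Idx F) : Matrix D.Idx D.Idx F) * M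
        * (((nW (F := F) hD Bd.X.C ws)⁻¹ : GL D.Idx F) : Matrix D.Idx D.Idx F)) := by
  intro a b hab
  obtain ⟨d, h1, h2⟩ := exists_of_mul_apply_ne_zero _ _ a b hab
  obtain ⟨e, h3, h4⟩ := exists_of_mul_apply_ne_zero _ _ a d h1
  have k1 := wt_nW_of hD Bd hS ws y a e h3
  have k2 := h e d h4
  have k3 := wt_nW_inv_of hD Bd hS' ws y d b h2
  rw [k1, ← k3]
  exact k2

end Cfsg.Agent.Lib.Helper35.BT
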