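/-
helper35: project BT, module [T-TAB]: the table facts of `BTData` for the seven tabulated Chevalley data.
-/
import Cfsg.Agent.Lib.Helper35.BT.Defs
import Cfsg.Agent.S1095
import Cfsg.Agent.Lib.Helper17.ChevSL2

set_option autoImplicit false

namespace Cfsg.Agent.Lib.Helper35.BT

open Cfsg Cfsg.Lie Cfsg.Agent.Lib.Helper18 Cfsg.Agent.Lib.Helper61.ChevJ Matrix

universe u

/-- The table check: the coefficients of the fundamental roots, of the reflected roots, and the linearity of the
Cartan integers. -/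
def btOK (T : FastDatum) (tabs simples : List ℕ) (rcT : ℕ) : Bool :=
  (List.range T.rank).all fun i0 => forceNat i0 fun i =>
    ((List.range T.rank).all fun k =>
      decide (rcAt rcT T.rank (simples.getD i 0) k = if k = i then 1 else 0)) &&
    ((List.range T.nroots).all fun s0 => forceNat s0 fun s =>
      ((List.range T.rank).all fun k =>
        decide (rcAt rcT T.rank (tabRoot (tabs.getD i 0) s) k
          = rcAt rcT T.rank s k - if k = i then T.cartan i s else 0)) &&
      decide (T.cartan i s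
        = ((List.range T.rank).map fun k => rcAt rcT T.rank s k * T.cartan i (simples.getD k 0)).sum))

theorem btOK_spec (T : FastDatum) (tabs simples : List ℕ) (rcT : ℕ) (h : btOK T tabs simples rcT = true)
    (i : ℕ) (hi : i < T.rank) :
    (∀ k < T.rank, rcAt rcT T.rank (simples.getD i 0) k = if k = i then 1 else 0) ∧
    ∀ s < T.nroots,
      (∀ k < T.rank, rcAt rcT T.rank (tabRoot (tabs.getD i 0) s) k
        = rcAt rcT T.rank s k - if k = i then T.cartan i s else 0) ∧
      T.cartan i s = ((List.range T.rank).map fun k => rcAt rcT T.rank s k * T.cartan i (simples.getD k 0)).sum := by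
  unfold btOK at h
  rw [List.all_eq_true] at h
  have h1 := h i (List.mem_range.mpr hi)
  rw [forceNat_eq, Bool.and_eq_true, List.all_eq_true, List.all_eq_true] at h1
  refine ⟨fun k hk => ?_, fun s hs => ?_⟩
  · have := h1.1 k (List.mem_range.mpr hk)
    rwa [decide_eq_true_eq] at this
  · have h2 := h1.2 s (List.mem_range.mpr hs)
    rw [forceNat_eq, Bool.and_eq_true, List.all_eq_true, decide_eq_true_eq] at h2
    refine ⟨fun k hk => ?_, h2.2⟩
    have := h2.1 k (List.mem_range.mpr hk)
    rwa [decide_eq_true_eq] at this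

theorem list_sum_map_range (n : ℕ) (f : ℕ → ℤ) : ((List.range n).map f).sum = ∑ k ∈ Finset.range n, f k := by
  induction n with
  | zero => simp
  | succ n ih => rw [List.range_succ, List.map_append, List.sum_append, ih, Finset.sum_range_succ]; simp

/-- From the table check to the fields of `BTData`. -/
def btData_of {D : ChevalleyDatum} (hD : D ∈ [chevG2, chevB2, chevD4, chevF4, chevE6, chevE7, chevE8])
    (X : JData.{u} D) (hnp : X.C.T.npOK X.C.tabs X.C.simples = true)
    (h : btOK X.C.T X.C.tabs X.C.simples X.rcT = true) : BTData.{u} D where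
  X := X
  hnp := hnp
  hsimple := fun i hi k hk => by
    have hl := X.C.rank_eq
    rw [X.C.hsimple i hi]
    exact (btOK_spec _ _ _ _ h i (hl.symm ▸ hi)).1 k (hl.symm ▸ hk)
  hrefl := fun i hi s hs k hk => by
    have hl := X.C.rank_eq
    have hn := X.C.nroots_eq
    rw [X.C.hrefl i hi s hs, X.C.T.cartan_eq D X.C.hag i hi s hs]
    exact ((btOK_spec _ _ _ _ h i (hl.symm ▸ hi)).2 s (hn.symm ▸ hs)).1 k (hl.symm ▸ hk)
  hcartan := fun i hi s hs => by
    have hl := X.C.rank_eq
    have hn := X.C.nroots_eq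
    rw [X.C.T.cartan_eq D X.C.hag i hi s hs, ((btOK_spec _ _ _ _ h i (hl.symm ▸ hi)).2 s (hn.symm ▸ hs)).2,
      list_sum_map_range, ← hl]
    refine Finset.sum_congr rfl fun k hk => ?_
    rw [Finset.mem_range] at hk
    rw [← X.C.hsimple k (hl ▸ hk), X.C.T.cartan_eq D X.C.hag i hi _ (X.C.simple_lt k (hl ▸ hk))]
  hself := fun i hi => Cfsg.Agent.Lib.Helper17.ChevSL2.cartan_simple D hD i hi

set_option maxRecDepth 1000000 in
theorem btOK_G2 : btOK fastG2 wTabs_G2 simples_G2 rcT_G2 = true := by decide +kernel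

set_option maxRecDepth 1000000 in
theorem btOK_B2 : btOK fastB2 wTabs_B2 simples_B2 rcT_B2 = true := by decide +kernel

set_option maxRecDepth 1000000 in
theorem btOK_D4 : btOK fastD4 wTabs_D4 simples_D4 rcT_D4 = true := by decide +kernel

set_option maxRecDepth 1000000 in
theorem btOK_F4 : btOK fastF4 wTabs_F4 simples_F4 rcT_F4 = true := by decide +kernel

set_option maxRecDepth 1000000 in
theorem btOK_E6 : btOK fastE6 wTabs_E6 simples_E6 rcT_E6 = true := by decide +kernel

set_option maxRecDepth 1000000 in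
theorem btOK_E7 : btOK fastE7 wTabs_E7 simples_E7 rcT_E7 = true := by decide +kernel

set_option maxRecDepth 1000000 in
theorem btOK_E8 : btOK fastE8 wTabs_E8 simples_E8 rcT_E8 = true := by decide +kernel

theorem nonempty_btData (D : ChevalleyDatum)
    (hD : D ∈ [chevG2, chevB2, chevD4, chevF4, chevE6, chevE7, chevE8]) : Nonempty (BTData.{u} D) := by
  have hD' := hD
  simp only [List.mem_cons, List.not_mem_nil, or_false] at hD'
  rcases hD' with rfl | rfl | rfl | rfl | rfl | rfl | rfl
  · exact ⟨btData_of hD jData_G2 Cfsg.Agent.S1095.npOK_G2 btOK_G2⟩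
  · exact ⟨btData_of hD jData_B2 Cfsg.Agent.S1095.npOK_B2 btOK_B2⟩
  · exact ⟨btData_of hD jData_D4 Cfsg.Agent.S1095.npOK_D4 btOK_D4⟩
  · exact ⟨btData_of hD jData_F4 Cfsg.Agent.S1095.npOK_F4 btOK_F4⟩
  · exact ⟨btData_of hD jData_E6 Cfsg.Agent.S1095.npOK_E6 btOK_E6⟩
  · exact ⟨btData_of hD jData_E7 Cfsg.Agent.S1095.npOK_E7 btOK_E7⟩
  · exact ⟨btData_of hD jData_E8 Cfsg.Agent.S1095.npOK_E8 btOK_E8⟩

end Cfsg.Agent.Lib.Helper35.BT
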