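/-
helper35: project BT (S2154, Borel–Tits).  The collected modules: imports of the landed module files and the exact
forms of [FIL-W], [UJ-FIL], [UNIP-U] from their `_of` forms.
-/
import Cfsg.Agent.Lib.Helper35.BT.Defs
import Cfsg.Agent.Lib.Helper35.BT.TTab
import Cfsg.Agent.Lib.Helper35.BT.Bruhat
import Cfsg.Agent.Lib.Helper35.BT.Dom
import Cfsg.Agent.Lib.Helper35.BT.FilInv
import Cfsg.Agent.Lib.Helper35.BT.FilWOf
import Cfsg.Agent.Lib.Helper34.BT.FilX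
import Cfsg.Agent.Lib.Helper34.BT.NegX
import Cfsg.Agent.Lib.Helper34.BT.FilBRho
import Cfsg.Agent.Lib.Helper34.BT.RootBExact
import Cfsg.Agent.Lib.Helper34.BT.FilSExact
import Cfsg.Agent.Lib.Helper6.BT.Sylow
import Cfsg.Agent.Lib.Helper6.BT.StabP
import Cfsg.Agent.Lib.Helper7.BT.RootA
import Cfsg.Agent.Lib.Helper7.BT.QInv
import Cfsg.Agent.Lib.Helper72.BT.LeviWt
import Cfsg.Agent.Lib.Helper77.BT.QMin
import Cfsg.Agent.Lib.Helper50.BT.UJFilOf
import Cfsg.Agent.S1048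

set_option autoImplicit false

namespace Cfsg.Agent.Lib.Helper35.BT

open Cfsg Cfsg.Lie Cfsg.Agent.Lib.Helper18 Cfsg.Agent.Lib.Helper61.ChevJ Matrix

universe u

variable {D : ChevalleyDatum} {F : Type u} [Field F]

/-! ### [FIL-W] -/

theorem wt_nW (hD : D ∈ [chevG2, chevB2, chevD4, chevF4, chevE6, chevE7, chevE8]) (Bd : BTData.{u} D)
    (ws : List ℕ) (y : Y D) (a b : D.Idx)
    (h : ((nW (F := F) hD Bd.X.C ws : GL D.Idx F) : Matrix D.Idx D.Idx F) a b ≠ 0) :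
    wt Bd.X (wy ws y) a = wt Bd.X y b :=
  wt_nW_of hD Bd (fun i y a b h => wt_sG hD Bd i y a b h) ws y a b h

theorem wt_nW_inv (hD : D ∈ [chevG2, chevB2, chevD4, chevF4, chevE6, chevE7, chevE8]) (Bd : BTData.{u} D)
    (ws : List ℕ) (y : Y D) (a b : D.Idx)
    (h : (((nW (F := F) hD Bd.X.C ws)⁻¹ : GL D.Idx F) : Matrix D.Idx D.Idx F) a b ≠ 0) :
    wt Bd.X y a = wt Bd.X (wy ws y) b :=
  wt_nW_inv_of hD Bd (fun i y a b h => wt_sG_inv hD Bd i y a b h) ws y a b h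

theorem fil_conj (hD : D ∈ [chevG2, chevB2, chevD4, chevF4, chevE6, chevE7, chevE8]) (Bd : BTData.{u} D)
    (ws : List ℕ) (y : Y D) (c : ℝ) (M : Matrix D.Idx D.Idx F) (h : Fil Bd.X y c M) :
    Fil Bd.X (wy ws y) c
      (((nW (F := F) hD Bd.X.C ws : GL D.Idx F) : Matrix D.Idx D.Idx F) * M
        * (((nW (F := F) hD Bd.X.C ws)⁻¹ : GL D.Idx F) : Matrix D.Idx D.Idx F)) :=
  fil_conj_of hD Bd (fun i y a b h => wt_sG hD Bd i y a b h) (fun i y a b h => wt_sG_inv hD Bd i y a b h)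
    ws y c M h

/-! ### [UJ-FIL] -/

theorem exists_fil_unipotentRadical [Finite F]
    (hD : D ∈ [chevG2, chevB2, chevD4, chevF4, chevE6, chevE7, chevE8]) (X : JData.{u} D) (y : Y D)
    (hy : Dom y) :
    ∃ c : ℝ, 0 < c ∧ ∀ u ∈ D.unipotentRadical F (Jof y), Fil X y c ((u : Matrix D.Idx D.Idx F) - 1) :=
  Cfsg.Agent.Lib.Helper50.BT.exists_fil_unipotentRadical_of X y
    (fun r hr t h => fil_x hD X y r hr t h) (fun r hr hnot => om_pos X y hy r hr hnot)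
    (fun c hc g h => fil_inv X y c hc g h)

/-! ### [UNIP-U] -/

theorem mem_unipotentRadical [Finite F] (hD : D ∈ [chevG2, chevB2, chevD4, chevF4, chevE6, chevE7, chevE8])
    (Bd : BTData.{u} D) (y : Y D) (hy : Dom y) (g : GL D.Idx F) (hg : g ∈ D.group F) (c : ℝ) (hc : 0 < c)
    (h : Fil Bd.X y c ((g : Matrix D.Idx D.Idx F) - 1)) : g ∈ D.unipotentRadical F (Jof y) := by
  obtain ⟨hnorm, hsup, -⟩ := Cfsg.Agent.S1048.result (F := F) D hD (Jof y)
  exact Cfsg.Agent.Lib.Helper50.BT.mem_unipotentRadical_of Bd.X y g c hc h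
    (fun c hc g h => fil_inv Bd.X y c hc g h)
    (fun h1 h2 => mem_parabolic hD Bd y hy g hg h1 h2)
    (fun l hl a b hab => levi_wt hD Bd.X y l hl a b hab)
    (exists_fil_unipotentRadical hD Bd.X y hy) hnorm hsup

end Cfsg.Agent.Lib.Helper35.BT
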