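/-
helper35: project BT (S2154, Borel–Tits).  The assembly: the Kempf–Rousseau argument.  Among all pairs `(g, y)` with
`g` in the group and `y` a real coweight such that every `g⁻¹ v g - 1` (`v ∈ V`) raises the `y`-weight by at least 1,
take one with `Q y` minimal; after moving `y` into the dominant chamber the normaliser of `V` lies in the conjugate
of the parabolic subgroup `P_J`, `J` the set of fundamental roots killed by `y`, and `V` in the conjugate of `U_J`.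
-/
import Cfsg.Agent.Lib.Helper35.BT.Mods

set_option autoImplicit false

namespace Cfsg.Agent.Lib.Helper35.BT

open Cfsg Cfsg.Lie Cfsg.Agent.Lib.Helper18 Cfsg.Agent.Lib.Helper61.ChevJ Matrix

universe u

variable {D : ChevalleyDatum} {F : Type u} [Field F]

theorem val_conj_sub_one (g b v : GL D.Idx F) :
    (((g * b)⁻¹ * v * (g * b) : GL D.Idx F) : Matrix D.Idx D.Idx F) - 1
      = ((b⁻¹ : GL D.Idx F) : Matrix D.Idx D.Idx F)
        * (((g⁻¹ * v * g : GL D.Idx F) : Matrix D.Idx D.Idx F) - 1) * (b : Matrix D.Idx D.Idx F) := by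
  have e : (g * b)⁻¹ * v * (g * b) = b⁻¹ * (g⁻¹ * v * g) * b := by group
  rw [e, Units.val_mul, Units.val_mul, Matrix.mul_sub, Matrix.sub_mul, Matrix.mul_one, ← Units.val_mul b⁻¹ b,
    inv_mul_cancel, Units.val_one]

theorem InK.mul_right {X : JData.{u} D} {V : Subgroup (GL D.Idx F)} {g : GL D.Idx F} {y : Y D}
    (h : InK X V g y) (b : GL D.Idx F) (hb1 : Fil X y 0 (b : Matrix D.Idx D.Idx F))
    (hb2 : Fil X y 0 ((b⁻¹ : GL D.Idx F) : Matrix D.Idx D.Idx F)) : InK X V (g * b) y := by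
  intro v hv
  rw [val_conj_sub_one]
  have := (hb2.mul (h v hv)).mul hb1
  rwa [zero_add, add_zero] at this

theorem InK.normalizer {X : JData.{u} D} {V : Subgroup (GL D.Idx F)} {g : GL D.Idx F} {y : Y D}
    (h : InK X V g y) (x : GL D.Idx F) (hx : x ∈ Subgroup.normalizer (V : Set (GL D.Idx F))) :
    InK X V (x * g) y := by
  intro v hv
  have hx' : x⁻¹ * v * x ∈ V := by
    rw [Subgroup.mem_normalizer_iff] at hx
    rw [hx]
    have e : x * (x⁻¹ * v * x) * x⁻¹ = v := by group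
    rwa [e]
  have e : (x * g)⁻¹ * v * (x * g) = g⁻¹ * (x⁻¹ * v * x) * g := by group
  rw [e]
  exact h _ hx'

theorem InK.convex {X : JData.{u} D} {V : Subgroup (GL D.Idx F)} {g : GL D.Idx F} {y z : Y D}
    (hy : InK X V g y) (hz : InK X V g z) : InK X V g ((1 / 2 : ℝ) • y + (1 / 2 : ℝ) • z) := by
  intro v hv
  have := (hy v hv).convex (hz v hv) (1 / 2) (1 / 2) (by norm_num) (by norm_num)
  have e : (1 / 2 : ℝ) * 1 + 1 / 2 * 1 = 1 := by norm_num
  rwa [e] at this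

theorem InK.conj (hD : D ∈ [chevG2, chevB2, chevD4, chevF4, chevE6, chevE7, chevE8]) (Bd : BTData.{u} D)
    {V : Subgroup (GL D.Idx F)} {g : GL D.Idx F} {y : Y D} (ws : List ℕ)
    (h : InK Bd.X V (g * nW hD Bd.X.C ws) y) : InK Bd.X V g (wy ws y) := by
  intro v hv
  have h1 := fil_conj hD Bd ws y 1 _ (h v hv)
  rw [val_conj_sub_one] at h1
  have e : ((nW (F := F) hD Bd.X.C ws : GL D.Idx F) : Matrix D.Idx D.Idx F)
      * ((((nW (F := F) hD Bd.X.C ws)⁻¹ : GL D.Idx F) : Matrix D.Idx D.Idx F)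
        * (((g⁻¹ * v * g : GL D.Idx F) : Matrix D.Idx D.Idx F) - 1)
        * ((nW (F := F) hD Bd.X.C ws : GL D.Idx F) : Matrix D.Idx D.Idx F))
      * (((nW (F := F) hD Bd.X.C ws)⁻¹ : GL D.Idx F) : Matrix D.Idx D.Idx F)
      = ((g⁻¹ * v * g : GL D.Idx F) : Matrix D.Idx D.Idx F) - 1 := by
    have e1 : ((nW (F := F) hD Bd.X.C ws : GL D.Idx F) : Matrix D.Idx D.Idx F)
        * (((nW (F := F) hD Bd.X.C ws)⁻¹ : GL D.Idx F) : Matrix D.Idx D.Idx F) = 1 := by
      rw [← Units.val_mul, mul_inv_cancel, Units.val_one]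
    simp only [Matrix.mul_assoc]
    rw [e1, Matrix.mul_one, ← Matrix.mul_assoc, e1, Matrix.one_mul]
  rwa [e] at h1

theorem InK.conj' (hD : D ∈ [chevG2, chevB2, chevD4, chevF4, chevE6, chevE7, chevE8]) (Bd : BTData.{u} D)
    {V : Subgroup (GL D.Idx F)} {g : GL D.Idx F} {y : Y D} (ws : List ℕ)
    (h : InK Bd.X V g y) : InK Bd.X V (g * (nW hD Bd.X.C ws)⁻¹) (wy ws y) := by
  apply InK.conj hD Bd ws
  rwa [inv_mul_cancel_right]

theorem wt_zero (X : JData.{u} D) (a : D.Idx) : wt X (0 : Y D) a = 0 := by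
  unfold wt
  simp

theorem eq_one_of_fil_zero (X : JData.{u} D) (M : Matrix D.Idx D.Idx F) (h : Fil X (0 : Y D) 1 (M - 1)) : M = 1 := by
  rw [← sub_eq_zero]
  ext a b
  by_contra hab
  have := h a b hab
  rw [wt_zero, wt_zero] at this
  linarith

theorem isClosed_inK (X : JData.{u} D) (V : Subgroup (GL D.Idx F)) (g : GL D.Idx F) :
    IsClosed {y : Y D | InK X V g y} := by
  have e : {y : Y D | InK X V g y}
      = ⋂ v ∈ V, {y : Y D | Fil X y 1 (((g⁻¹ * v * g : GL D.Idx F) : Matrix D.Idx D.Idx F) - 1)} := by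
    ext y
    simp only [Set.mem_ofPred_eq, Set.mem_iInter]
    rfl
  rw [e]
  exact isClosed_biInter fun v _ => isClosed_fil X 1 _

/-- The global minimiser. -/
theorem exists_minimiser [Finite F] (Bd : BTData.{u} D) (V : Subgroup (GL D.Idx F)) (g0 : GL D.Idx F)
    (hg0 : g0 ∈ D.group F) (y0 : Y D) (h0 : InK Bd.X V g0 y0) :
    ∃ g ∈ D.group F, ∃ y, InK Bd.X V g y ∧ ∀ g' ∈ D.group F, ∀ y', InK Bd.X V g' y' → Q Bd.X y ≤ Q Bd.X y' := by
  have key : ∀ g : GL D.Idx F, ∃ q : ℝ, (∃ y, InK Bd.X V g y) →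
      ∃ y1, InK Bd.X V g y1 ∧ Q Bd.X y1 = q ∧ ∀ z, InK Bd.X V g z → q ≤ Q Bd.X z := by
    intro g
    by_cases h : ∃ y, InK Bd.X V g y
    · obtain ⟨y1, hy1, hmin⟩ := exists_min_Q Bd {y | InK Bd.X V g y} (isClosed_inK Bd.X V g) h
      exact ⟨Q Bd.X y1, fun _ => ⟨y1, hy1, rfl, hmin⟩⟩
    · exact ⟨0, fun h' => absurd h' h⟩
  choose m hm using key
  obtain ⟨g1, hg1T, hg1min⟩ := Set.exists_min_image {g : GL D.Idx F | g ∈ D.group F ∧ ∃ y, InK Bd.X V g y} m
    (Set.toFinite _) ⟨g0, hg0, y0, h0⟩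
  obtain ⟨y1, hy1, hQ1, -⟩ := hm g1 hg1T.2
  refine ⟨g1, hg1T.1, y1, hy1, fun g hg y hy => ?_⟩
  obtain ⟨y', -, -, hmin'⟩ := hm g ⟨y, hy⟩
  calc Q Bd.X y1 = m g1 := hQ1
    _ ≤ m g := hg1min g ⟨hg, y, hy⟩
    _ ≤ Q Bd.X y := hmin' y hy

/-- The Borel–Tits theorem for the seven tabulated Chevalley data. -/
theorem main [Fintype F] (p : ℕ) [Fact p.Prime] [CharP F p]
    (hD : D ∈ [chevG2, chevB2, chevD4, chevF4, chevE6, chevE7, chevE8]) (V : Subgroup (GL D.Idx F))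
    (hVG : V ≤ D.group F) (hV : IsPGroup p V) (hne : V ≠ ⊥) :
    ∃ g ∈ D.group F, ∃ J : Set ℕ, (∃ i, i < D.rank ∧ i ∉ J) ∧
      Subgroup.normalizer (V : Set (GL D.Idx F)) ⊓ D.group F
        ≤ (D.parabolicSubgroup F J).map (MulAut.conj g).toMonoidHom ∧
      V ≤ (D.unipotentRadical F J).map (MulAut.conj g).toMonoidHom := by
  obtain ⟨Bd⟩ := nonempty_btData.{u} D hD
  obtain ⟨hBG, hNG, -⟩ := Cfsg.Agent.S1043.result (F := F) D hD
  -- a first admissible pair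
  obtain ⟨g0, hg0, hconj⟩ := exists_conj_mem_posUnipotent p hD V hVG hV
  have h0 : InK Bd.X V g0 (fun _ => (1 : ℝ)) := fun v hv => fil_rho hD Bd.X _ (hconj v hv)
  -- a minimal pair
  obtain ⟨g1, hg1, y1, hy1, hmin1⟩ := exists_minimiser Bd V g0 hg0 _ h0
  -- a dominant minimal pair
  obtain ⟨ws, hdom⟩ := exists_dom hD Bd y1
  have hnG : nW (F := F) hD Bd.X.C ws ∈ D.group F := hNG (nW_mem_monomial hD Bd.X.C ws)
  set g2 : GL D.Idx F := g1 * (nW hD Bd.X.C ws)⁻¹ with hg2def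
  set y2 : Y D := wy ws y1 with hy2def
  have hg2 : g2 ∈ D.group F := mul_mem hg1 (inv_mem hnG)
  have hy2 : InK Bd.X V g2 y2 := InK.conj' hD Bd ws hy1
  have hmin2 : ∀ g' ∈ D.group F, ∀ y', InK Bd.X V g' y' → Q Bd.X y2 ≤ Q Bd.X y' := by
    intro g' hg' y' hy'
    rw [hy2def, Q_wy]
    exact hmin1 g' hg' y' hy'
  -- `y2 ≠ 0`
  have hy2ne : y2 ≠ 0 := by
    intro h
    apply hne
    rw [Subgroup.eq_bot_iff_forall]
    intro v hv
    have h1 := hy2 v hv
    rw [h] at h1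
    have h2 := eq_one_of_fil_zero Bd.X _ h1
    have h3 : g2⁻¹ * v * g2 = 1 := Units.ext h2
    have e : v = g2 * (g2⁻¹ * v * g2) * g2⁻¹ := by group
    rw [e, h3]
    group
  refine ⟨g2, hg2, Jof y2, ?_, ?_, ?_⟩
  · -- `J` is proper
    have : ∃ k, y2 k ≠ 0 := by
      by_contra hcon
      push Not at hcon
      exact hy2ne (funext hcon)
    obtain ⟨k, hk⟩ := this
    refine ⟨k.1, k.2, ?_⟩
    rintro ⟨h, hk0⟩
    exact hk hk0
  · -- the normaliser
    intro x hx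
    rw [Subgroup.mem_inf] at hx
    obtain ⟨hxN, hxG⟩ := hx
    have hzG : g2⁻¹ * x * g2 ∈ D.group F := mul_mem (mul_mem (inv_mem hg2) hxG) hg2
    obtain ⟨b, hb, ws1, b', hb', hz⟩ := exists_bruhat hD Bd.X.C _ hzG
    obtain ⟨hb1, hb2⟩ := fil_borel hD Bd.X y2 hdom b hb
    obtain ⟨hb'1, hb'2⟩ := fil_borel hD Bd.X y2 hdom b' hb'
    have hxg : InK Bd.X V (x * g2) y2 := hy2.normalizer x hxN
    have hh : InK Bd.X V (g2 * b) y2 := hy2.mul_right b hb1 hb2
    have hhn : InK Bd.X V (g2 * b * nW hD Bd.X.C ws1) y2 := by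
      have e : g2 * b * nW hD Bd.X.C ws1 = x * g2 * b'⁻¹ := by
        have : x * g2 = g2 * (g2⁻¹ * x * g2) := by group
        rw [this, hz]
        group
      rw [e]
      refine hxg.mul_right b'⁻¹ hb'2 ?_
      rwa [inv_inv]
    have hhw : InK Bd.X V (g2 * b) (wy ws1 y2) := InK.conj hD Bd ws1 hhn
    have hmid := hh.convex hhw
    have hhG : g2 * b ∈ D.group F := mul_mem hg2 (hBG hb)
    have hQmid := hmin2 _ hhG _ hmid
    have hfix : wy ws1 y2 = y2 := by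
      by_contra hcon
      have := Q_mid_lt Bd y2 (wy ws1 y2) (fun h => hcon h.symm) (Q_wy Bd ws1 y2)
      linarith
    have hn1 : Fil Bd.X y2 0 ((nW (F := F) hD Bd.X.C ws1 : GL D.Idx F) : Matrix D.Idx D.Idx F) := by
      intro a c hac
      have := wt_nW hD Bd ws1 y2 a c hac
      rw [hfix] at this
      linarith
    have hn2 : Fil Bd.X y2 0 (((nW (F := F) hD Bd.X.C ws1)⁻¹ : GL D.Idx F) : Matrix D.Idx D.Idx F) := by
      intro a c hac
      have := wt_nW_inv hD Bd ws1 y2 a c hac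
      rw [hfix] at this
      linarith
    have hz1 : Fil Bd.X y2 0 ((g2⁻¹ * x * g2 : GL D.Idx F) : Matrix D.Idx D.Idx F) := by
      rw [hz, Units.val_mul, Units.val_mul]
      have := (hb1.mul hn1).mul hb'1
      rwa [add_zero, add_zero] at this
    have hz2 : Fil Bd.X y2 0 (((g2⁻¹ * x * g2)⁻¹ : GL D.Idx F) : Matrix D.Idx D.Idx F) := by
      have e : (g2⁻¹ * x * g2)⁻¹ = b'⁻¹ * (nW hD Bd.X.C ws1)⁻¹ * b⁻¹ := by
        rw [hz]
        group
      rw [e, Units.val_mul, Units.val_mul]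
      have := (hb'2.mul hn2).mul hb2
      rwa [add_zero, add_zero] at this
    have hzP := mem_parabolic hD Bd y2 hdom _ hzG hz1 hz2
    rw [Subgroup.mem_map]
    refine ⟨g2⁻¹ * x * g2, hzP, ?_⟩
    show g2 * (g2⁻¹ * x * g2) * g2⁻¹ = x
    group
  · -- `V` itself
    intro v hv
    have huG : g2⁻¹ * v * g2 ∈ D.group F := mul_mem (mul_mem (inv_mem hg2) (hVG hv)) hg2
    have hu := mem_unipotentRadical hD Bd y2 hdom _ huG 1 one_pos (hy2 v hv)
    rw [Subgroup.mem_map]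
    refine ⟨g2⁻¹ * v * g2, hu, ?_⟩
    show g2 * (g2⁻¹ * v * g2) * g2⁻¹ = v
    group

end Cfsg.Agent.Lib.Helper35.BT
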